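import Mathlib
import Cfsg.Agent.Lib.Small.PSL2

/-!
# The projective image of `GL₂(p)` in `PSL₂(p²)`
-/

set_option autoImplicit false

namespace Cfsg.Agent.TwoClass

open Matrix Cfsg.Agent.Small

variable (p : ℕ) [hp : Fact p.Prime]

theorem exists_sqrt (h5 : 5 ≤ p) (a : ZMod p) :
    ∃ s : GaloisField p 2, s * s = algebraMap (ZMod p) (GaloisField p 2) a := by
  haveI : Fintype (GaloisField p 2) := Fintype.ofFinite _
  by_cases ha : a = 0
  · exact ⟨0, by simp [ha]⟩
  have h2 : ringChar (GaloisField p 2) ≠ 2 := by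
    rw [ringChar.eq (GaloisField p 2) p]; omega
  have h0 : algebraMap (ZMod p) (GaloisField p 2) a ≠ 0 :=
    (map_ne_zero_iff _ (algebraMap (ZMod p) (GaloisField p 2)).injective).2 ha
  obtain ⟨r, hr⟩ := (FiniteField.isSquare_iff h2 h0).2 (by
    rw [← map_pow]
    have hc : Fintype.card (GaloisField p 2) = p ^ 2 := by
      rw [← Nat.card_eq_fintype_card]; exact GaloisField.card p 2 (by norm_num)
    have hdvd : p - 1 ∣ p ^ 2 / 2 := by
      obtain ⟨k, hk⟩ := hp.out.odd_of_ne_two (by omega)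
      subst hk
      refine ⟨k + 1, ?_⟩
      rw [show (2 * k + 1) ^ 2 = 1 + (2 * k + 1 - 1) * (k + 1) * 2 by
        rw [Nat.add_sub_cancel]; ring, Nat.add_mul_div_right _ _ (by norm_num)]
      omega
    obtain ⟨m, hm⟩ := hdvd
    rw [hc, hm, pow_mul, ZMod.pow_card_sub_one_eq_one ha, one_pow, map_one])
  exact ⟨r, hr.symm⟩

/-- A square root of an element of the prime field. -/
noncomputable def root (h5 : 5 ≤ p) (a : ZMod p) : GaloisField p 2 := (exists_sqrt p h5 a).choose

theorem root_sq (h5 : 5 ≤ p) (a : ZMod p) :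
    root p h5 a * root p h5 a = algebraMap (ZMod p) (GaloisField p 2) a :=
  (exists_sqrt p h5 a).choose_spec

theorem root_ne (h5 : 5 ≤ p) {a : ZMod p} (ha : a ≠ 0) : root p h5 a ≠ 0 := by
  intro h
  have := root_sq p h5 a
  rw [h, mul_zero, eq_comm, map_eq_zero_iff _
    (algebraMap (ZMod p) (GaloisField p 2)).injective] at this
  exact ha this

theorem det_ne (g : GL (Fin 2) (ZMod p)) : g.1.det ≠ 0 :=
  ((Matrix.isUnit_iff_isUnit_det g.1).1 g.isUnit).ne_zero

/-- The normalised lift. -/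
noncomputable def lift (h5 : 5 ≤ p) (g : GL (Fin 2) (ZMod p)) :
    Matrix.SpecialLinearGroup (Fin 2) (GaloisField p 2) :=
  ⟨(root p h5 g.1.det)⁻¹ • g.1.map (algebraMap (ZMod p) (GaloisField p 2)), by
    have h : (g.1.map (algebraMap (ZMod p) (GaloisField p 2))).det =
        algebraMap (ZMod p) (GaloisField p 2) g.1.det := by
      rw [← RingHom.mapMatrix_apply, ← RingHom.map_det]
    rw [det_smul, Fintype.card_fin, h, ← root_sq p h5 g.1.det]
    have := root_ne p h5 (det_ne p g)
    field_simp⟩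

/-- The projective image. -/
noncomputable def phi (h5 : 5 ≤ p) :
    GL (Fin 2) (ZMod p) →* Matrix.ProjectiveSpecialLinearGroup (Fin 2) (GaloisField p 2) :=
  MonoidHom.mk' (fun g => PSL2.pr (lift p h5 g)) fun a b => by
    rw [← map_mul, PSL2.pr_eq_iff]
    set sa := root p h5 a.1.det
    set sb := root p h5 b.1.det
    set sc := root p h5 (a * b).1.det
    have ha : sa ≠ 0 := root_ne p h5 (det_ne p a)
    have hb : sb ≠ 0 := root_ne p h5 (det_ne p b)
    have hc : sc ≠ 0 := root_ne p h5 (det_ne p (a * b))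
    have hsq : sc * sc = sa * sa * (sb * sb) := by
      simp only [sa, sb, sc, root_sq, ← map_mul, Units.val_mul, det_mul]
    refine ⟨sa * sb / sc, ?_, ?_⟩
    · field_simp
      linear_combination -hsq
    · show sc⁻¹ • (a * b).1.map _ = (sa * sb / sc) • ((sa⁻¹ • a.1.map _) * (sb⁻¹ • b.1.map _))
      rw [Units.val_mul, Matrix.map_mul, Matrix.smul_mul, Matrix.mul_smul, smul_smul, smul_smul]
      congr 1
      field_simp

/-- The kernel consists of scalars. -/
theorem phi_ker (h5 : 5 ≤ p) {g : GL (Fin 2) (ZMod p)} (hg : phi p h5 g = 1) :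
    g.1 = g.1 0 0 • (1 : Matrix (Fin 2) (Fin 2) (ZMod p)) := by
  obtain ⟨ε, -, hε⟩ := (PSL2.pr_eq_iff (lift p h5 g) 1).1 (hg.trans (map_one _).symm)
  have hroot : (root p h5 g.1.det)⁻¹ ≠ 0 := inv_ne_zero (root_ne p h5 (det_ne p g))
  have hent : ∀ i j, (root p h5 g.1.det)⁻¹ * algebraMap (ZMod p) (GaloisField p 2) (g.1 i j) =
      ε * (1 : Matrix (Fin 2) (Fin 2) (GaloisField p 2)) i j := fun i j => by
    have := congrFun (congrFun hε i) j
    simpa [lift] using this
  have hinj := (algebraMap (ZMod p) (GaloisField p 2)).injective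
  have h00 := hent 0 0
  have h01 := hent 0 1
  have h10 := hent 1 0
  have h11 := hent 1 1
  simp [hroot] at h01 h10
  have h : g.1 1 1 = g.1 0 0 := hinj (mul_left_cancel₀ hroot (by rw [h11, h00]; simp))
  ext i j
  fin_cases i <;> fin_cases j <;> simp [h01, h10, h]

theorem phi_scalar (h5 : 5 ≤ p) {g : GL (Fin 2) (ZMod p)} {c : ZMod p}
    (hg : g.1 = c • (1 : Matrix (Fin 2) (Fin 2) (ZMod p))) : phi p h5 g = 1 := by
  refine ((PSL2.pr_eq_iff (lift p h5 g) 1).2 ⟨(root p h5 g.1.det)⁻¹ *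
    algebraMap (ZMod p) (GaloisField p 2) c, ?_, ?_⟩).trans (map_one _)
  · have hd : g.1.det = c * c := by rw [hg]; simp [sq]
    have h := root_sq p h5 g.1.det
    have hr := root_ne p h5 (det_ne p g)
    rw [hd, map_mul] at h
    field_simp
    rw [hd]
    linear_combination -h
  · show (root p h5 g.1.det)⁻¹ • g.1.map _ = _
    rw [hg]
    ext i j
    fin_cases i <;> fin_cases j <;> simp

end Cfsg.Agent.TwoClass
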