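import Mathlib

/-!
# Class representatives in `A₄`, `S₄` and `A₅`
-/

set_option autoImplicit false
set_option maxRecDepth 10000

namespace Cfsg.Agent.TwoClass

open Equiv

/-- Representatives in `A₄`. -/
def repFour : Fin 4 → Perm (Fin 4) :=
  ![1, swap 0 1 * swap 2 3, swap 0 1 * swap 1 2, swap 1 2 * swap 0 1]

theorem repFour_even : ∀ i, Perm.sign (repFour i) = 1 := by decide +kernel

theorem repFour_sep : ∀ g : Perm (Fin 4), Perm.sign g = 1 → ∀ i j, i ≠ j →
    g * repFour i ≠ repFour j * g := by decide +kernel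

theorem repFour_sq : ∀ i, i ≠ 1 → repFour i = 1 ∨ repFour i * repFour i ≠ 1 := by decide +kernel

/-- Representatives in `S₄`. -/
def repSym : Fin 5 → Perm (Fin 4) :=
  ![1, swap 0 1, swap 0 1 * swap 2 3, swap 0 1 * swap 1 2, swap 0 1 * swap 1 2 * swap 2 3]

theorem repSym_sep : ∀ g : Perm (Fin 4), ∀ i j, i ≠ j → g * repSym i ≠ repSym j * g := by
  decide +kernel

theorem repSym_sq : ∀ i, i ≠ 1 ∧ i ≠ 2 → repSym i = 1 ∨ repSym i * repSym i ≠ 1 := by
  decide +kernel

/-- Representatives in `A₅`. -/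
def repFive : Fin 5 → Perm (Fin 5) :=
  ![1, swap 0 1 * swap 2 3, swap 0 1 * swap 1 2,
    swap 0 1 * swap 1 2 * swap 2 3 * swap 3 4,
    swap 0 1 * swap 1 2 * swap 2 3 * swap 3 4 * (swap 0 1 * swap 1 2 * swap 2 3 * swap 3 4)]

theorem repFive_even : ∀ i, Perm.sign (repFive i) = 1 := by decide +kernel

theorem repFive_sep : ∀ g : Perm (Fin 5), Perm.sign g = 1 → ∀ i j, i ≠ j →
    g * repFive i ≠ repFive j * g := by decide +kernel

theorem repFive_sq : ∀ i, i ≠ 1 → repFive i = 1 ∨ repFive i * repFive i ≠ 1 := by decide +kernel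

end Cfsg.Agent.TwoClass
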