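import Cfsg.Agent.Lib.Perm.Fpf.SL25Facts

/-!
# The nine conjugacy classes of `SL(2,5)`
-/

set_option autoImplicit false
set_option maxRecDepth 10000

namespace Cfsg.Agent.TwoClass

open Cfsg.Agent.Perm.Fpf Cfsg.Agent.Perm.Fpf.SL25

/-- The representatives. -/
def cls : List T := [
  ⟨1, 0, 0, 1⟩, ⟨0, 1, 4, 0⟩, ⟨0, 1, 4, 1⟩, ⟨0, 1, 4, 2⟩, ⟨0, 1, 4, 3⟩, ⟨0, 1, 4, 4⟩, ⟨0, 2, 2, 2⟩, ⟨0, 2, 2, 3⟩, ⟨4, 0, 0, 4⟩]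

/-- A conjugator and a representative for each element. -/
def conjTab : List (T × Fin 9) := [
  (⟨0, 1, 4, 0⟩, 0), (⟨0, 1, 4, 0⟩, 1), (⟨0, 1, 4, 1⟩, 1), (⟨0, 1, 4, 2⟩, 1), (⟨0, 1, 4, 3⟩, 1),
  (⟨0, 1, 4, 4⟩, 1), (⟨0, 2, 2, 0⟩, 1), (⟨0, 2, 2, 1⟩, 1), (⟨0, 2, 2, 2⟩, 1), (⟨0, 2, 2, 3⟩, 1),
  (⟨0, 2, 2, 4⟩, 1), (⟨1, 1, 0, 1⟩, 1), (⟨1, 1, 1, 2⟩, 1), (⟨1, 1, 2, 3⟩, 1), (⟨1, 1, 3, 4⟩, 1),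
  (⟨1, 1, 4, 0⟩, 1), (⟨1, 2, 0, 1⟩, 1), (⟨1, 2, 1, 3⟩, 1), (⟨1, 2, 2, 0⟩, 1), (⟨1, 2, 3, 2⟩, 1),
  (⟨1, 2, 4, 4⟩, 1), (⟨1, 3, 0, 1⟩, 1), (⟨1, 3, 1, 4⟩, 1), (⟨1, 3, 2, 2⟩, 1), (⟨1, 3, 3, 0⟩, 1),
  (⟨1, 3, 4, 3⟩, 1), (⟨2, 2, 0, 3⟩, 1), (⟨2, 2, 1, 4⟩, 1), (⟨2, 2, 2, 0⟩, 1), (⟨2, 2, 3, 1⟩, 1),
  (⟨2, 2, 4, 2⟩, 1), (⟨0, 1, 4, 0⟩, 2), (⟨0, 1, 4, 1⟩, 2), (⟨0, 1, 4, 2⟩, 2), (⟨0, 1, 4, 3⟩, 2),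
  (⟨0, 1, 4, 4⟩, 2), (⟨0, 2, 2, 0⟩, 2), (⟨0, 2, 2, 1⟩, 2), (⟨0, 2, 2, 2⟩, 2), (⟨0, 2, 2, 3⟩, 2),
  (⟨0, 2, 2, 4⟩, 2), (⟨1, 1, 0, 1⟩, 2), (⟨1, 1, 1, 2⟩, 2), (⟨1, 1, 2, 3⟩, 2), (⟨1, 1, 3, 4⟩, 2),
  (⟨1, 1, 4, 0⟩, 2), (⟨1, 2, 0, 1⟩, 2), (⟨1, 2, 1, 3⟩, 2), (⟨1, 2, 2, 0⟩, 2), (⟨1, 2, 3, 2⟩, 2),
  (⟨1, 2, 4, 4⟩, 2), (⟨0, 1, 4, 0⟩, 3), (⟨0, 1, 4, 1⟩, 3), (⟨0, 1, 4, 2⟩, 3), (⟨0, 1, 4, 3⟩, 3),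
  (⟨0, 1, 4, 4⟩, 3), (⟨0, 2, 2, 0⟩, 3), (⟨0, 2, 2, 1⟩, 3), (⟨0, 2, 2, 2⟩, 3), (⟨0, 2, 2, 3⟩, 3),
  (⟨0, 2, 2, 4⟩, 3), (⟨1, 4, 0, 1⟩, 3), (⟨2, 3, 0, 3⟩, 3), (⟨0, 1, 4, 0⟩, 4), (⟨0, 1, 4, 1⟩, 4),
  (⟨0, 1, 4, 2⟩, 4), (⟨0, 1, 4, 3⟩, 4), (⟨0, 1, 4, 4⟩, 4), (⟨0, 2, 2, 0⟩, 4), (⟨0, 2, 2, 1⟩, 4),
  (⟨0, 2, 2, 2⟩, 4), (⟨0, 2, 2, 3⟩, 4), (⟨0, 2, 2, 4⟩, 4), (⟨1, 1, 0, 1⟩, 4), (⟨2, 2, 0, 3⟩, 4),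
  (⟨0, 1, 4, 0⟩, 5), (⟨0, 1, 4, 1⟩, 5), (⟨0, 1, 4, 2⟩, 5), (⟨0, 1, 4, 3⟩, 5), (⟨0, 1, 4, 4⟩, 5),
  (⟨0, 2, 2, 0⟩, 5), (⟨0, 2, 2, 1⟩, 5), (⟨0, 2, 2, 2⟩, 5), (⟨0, 2, 2, 3⟩, 5), (⟨0, 2, 2, 4⟩, 5),
  (⟨1, 2, 0, 1⟩, 5), (⟨1, 2, 1, 3⟩, 5), (⟨1, 2, 2, 0⟩, 5), (⟨1, 2, 3, 2⟩, 5), (⟨1, 2, 4, 4⟩, 5),
  (⟨1, 3, 0, 1⟩, 5), (⟨1, 3, 1, 4⟩, 5), (⟨1, 3, 2, 2⟩, 5), (⟨1, 3, 3, 0⟩, 5), (⟨1, 3, 4, 3⟩, 5),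
  (⟨0, 1, 4, 0⟩, 6), (⟨0, 1, 4, 1⟩, 6), (⟨0, 1, 4, 2⟩, 6), (⟨0, 1, 4, 3⟩, 6), (⟨0, 1, 4, 4⟩, 6),
  (⟨0, 2, 2, 0⟩, 6), (⟨0, 2, 2, 1⟩, 6), (⟨0, 2, 2, 2⟩, 6), (⟨0, 2, 2, 3⟩, 6), (⟨0, 2, 2, 4⟩, 6),
  (⟨1, 3, 0, 1⟩, 6), (⟨2, 1, 0, 3⟩, 6), (⟨0, 1, 4, 0⟩, 7), (⟨0, 1, 4, 1⟩, 7), (⟨0, 1, 4, 2⟩, 7),
  (⟨0, 1, 4, 3⟩, 7), (⟨0, 1, 4, 4⟩, 7), (⟨0, 2, 2, 0⟩, 7), (⟨0, 2, 2, 1⟩, 7), (⟨0, 2, 2, 2⟩, 7),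
  (⟨0, 2, 2, 3⟩, 7), (⟨0, 2, 2, 4⟩, 7), (⟨1, 2, 0, 1⟩, 7), (⟨2, 4, 0, 3⟩, 7), (⟨0, 1, 4, 0⟩, 8)]

/-- The adjugate. -/
def adjT (x : T) : T := ⟨x.s, -x.q, -x.r, x.p⟩

/-- The representative of index `i`. -/
def clsAt (i : Fin 9) : T := cls.getD i ⟨1, 0, 0, 1⟩

/-- The element given by a row of the table. -/
def rowVal (r : T × Fin 9) : T := r.1 * clsAt r.2 * adjT r.1

theorem cls_det : ∀ i, (clsAt i).p * (clsAt i).s - (clsAt i).q * (clsAt i).r = 1 := by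
  decide +kernel

theorem tab_det : ∀ r ∈ conjTab, r.1.p * r.1.s - r.1.q * r.1.r = 1 := by decide +kernel

theorem tab_nodup : (conjTab.map rowVal).Nodup ∧ conjTab.length = 120 := by decide +kernel

/-- The elements of `SL(2,5)`. -/
def group : List T := conjTab.map rowVal

theorem cls_sep : ∀ g ∈ group, ∀ i j : Fin 9, i < j → g * clsAt i ≠ clsAt j * g := by
  decide +kernel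

/-- An element from its entries. -/
def ofT (x : T) (h : x.p * x.s - x.q * x.r = 1) : SL :=
  ⟨!![x.p, x.q; x.r, x.s], by rw [Matrix.det_fin_two_of]; exact h⟩

theorem toT_ofT (x : T) (h : x.p * x.s - x.q * x.r = 1) : toT (ofT x h) = x := by
  cases x
  simp [toT, ofT]

theorem toT_inv' (g : SL) : toT g⁻¹ = adjT (toT g) := by
  simp [toT, adjT, Matrix.SpecialLinearGroup.coe_inv, Matrix.adjugate_fin_two]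

theorem card_conjClasses_sl25 : Nat.card (ConjClasses SL) = 9 := by
  let rep : Fin 9 → SL := fun i => ofT (clsAt i) (cls_det i)
  let el : Fin conjTab.length → SL := fun k =>
    ofT (conjTab.get k).1 (tab_det _ (List.get_mem _ _)) * rep (conjTab.get k).2 *
      (ofT (conjTab.get k).1 (tab_det _ (List.get_mem _ _)))⁻¹
  have hel : ∀ k, toT (el k) = rowVal (conjTab.get k) := fun k => by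
    simp only [el, rep, toT_mul, toT_inv', toT_ofT, rowVal]
  have hinj : Function.Injective el := fun a b hab => by
    have h1 := congrArg toT hab
    rw [hel, hel] at h1
    exact (List.Nodup.of_map _ tab_nodup.1).injective_get
      (List.inj_on_of_nodup_map tab_nodup.1 (List.get_mem _ _) (List.get_mem _ _) h1)
  have hsurj : Function.Surjective el := by
    refine ((Nat.bijective_iff_injective_and_card el).2 ⟨hinj, ?_⟩).2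
    rw [Nat.card_fin, tab_nodup.2, card_SL]
  have hb : Function.Bijective fun i => ConjClasses.mk (rep i) := by
    refine ⟨fun i j hij => ?_, fun c => ?_⟩
    · by_contra hne
      wlog hlt : i < j generalizing i j
      · exact this j i hij.symm (Ne.symm hne) (lt_of_le_of_ne (not_lt.1 hlt) (Ne.symm hne))
      obtain ⟨g, hg⟩ := isConj_iff.1 (ConjClasses.mk_eq_mk_iff_isConj.1 hij)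
      have hmem : toT g ∈ group := by
        obtain ⟨k, rfl⟩ := hsurj g
        rw [hel]
        exact List.mem_map_of_mem (List.get_mem _ _)
      refine cls_sep _ hmem i j hlt ?_
      have := congrArg toT (mul_inv_eq_iff_eq_mul.1 hg)
      simpa only [toT_mul, rep, toT_ofT] using this
    · obtain ⟨x, rfl⟩ := ConjClasses.mk_surjective c
      obtain ⟨k, rfl⟩ := hsurj x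
      exact ⟨(conjTab.get k).2, ConjClasses.mk_eq_mk_iff_isConj.2 (isConj_iff.2 ⟨_, rfl⟩)⟩
  rw [← Nat.card_congr (Equiv.ofBijective _ hb), Nat.card_fin]

end Cfsg.Agent.TwoClass
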