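import Cfsg.Agent.Lib.Char.TwoClass.ClassCount
import Cfsg.Agent.Lib.Char.TwoClass.QuotModels
import Cfsg.Agent.Lib.Char.TwoClass.Proj
import Cfsg.Agent.Lib.Char.TwoClass.SL25Count
import Cfsg.Agent.Lib.Classical.Dickson.Classify
import Cfsg.Agent.Lib.Perm.Fpf.Entry

/-!
# Classes of a transitive linear group of degree two of order prime to `p`
-/

set_option autoImplicit false
set_option linter.style.haveILetI false

namespace Cfsg.Agent.TwoClass

open Matrix Cfsg.Agent.Small Cfsg.Agent.Classical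

variable {p : ℕ} [hp : Fact p.Prime]

theorem sq_scalar_of_trace (a : (Matrix (Fin 2) (Fin 2) (ZMod p))) (h : a.trace = 0) : a * a = (-a.det) • (1 : (Matrix (Fin 2) (Fin 2) (ZMod p))) := by
  rw [trace_fin_two] at h
  have h1 : a 1 1 = -a 0 0 := eq_neg_of_add_eq_zero_right h
  ext i j
  fin_cases i <;> fin_cases j <;>
    simp [mul_apply, Fin.sum_univ_two, det_fin_two, h1] <;> ring

section Count

variable (H : Subgroup (GL (Fin 2) (ZMod p))) {M : Type*} [Group M] (π : H →* M)

/-- Class counting over a projective quotient. -/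
theorem classes_over (h5 : 5 ≤ p) (hker : ∀ h : H, π h = 1 ↔ ∃ c : ZMod p, h.1.1 = c • (1 : (Matrix (Fin 2) (Fin 2) (ZMod p))))
    (hsurj : Function.Surjective π) {n : ℕ} (r : Fin n → M) (J : Finset (Fin n))
    (hsep : ∀ i j, i ≠ j → ¬ IsConj (r i) (r j)) (hJ : ∀ i ∈ J, r i = 1 ∨ r i * r i ≠ 1) :
    Nat.card π.ker * (n + J.card) ≤ 2 * Nat.card (ConjClasses H) ∧ n ≤ Nat.card (ConjClasses H) := by
  haveI : Finite H := inferInstance
  choose x hx using fun i => hsurj (r i)
  have htwo_ne : (2 : ZMod p) ≠ 0 := by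
    intro h
    have : (p : ℕ) ∣ 2 := (ZMod.natCast_eq_zero_iff 2 p).1 (by exact_mod_cast h)
    have := Nat.le_of_dvd (by norm_num) this
    omega
  have hdata : ∀ i, ∀ a b : π.ker, IsConj (x i * a) (x i * b) →
      a = b ∨ ((a : H).1.1 0 0 = -(b : H).1.1 0 0 ∧ (x i).1.1.trace = 0) := by
    intro i a b h
    obtain ⟨ca, ha⟩ := (hker a).1 a.2
    obtain ⟨cb, hb⟩ := (hker b).1 b.2
    obtain ⟨g, hg⟩ := isConj_iff.1 h
    have hm : g.1.1 * ((x i).1.1 * (a : H).1.1) * (g.1⁻¹ : (GL (Fin 2) (ZMod p))).1 = (x i).1.1 * (b : H).1.1 := by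
      have := congrArg (fun z : H => (z.1.1 : Matrix (Fin 2) (Fin 2) (ZMod p))) hg
      simpa using this
    have hxd : (x i).1.1.det ≠ 0 := det_ne p _
    have hd := congrArg Matrix.det hm
    have ht := congrArg Matrix.trace hm
    rw [det_units_conj (g.1 : (GL (Fin 2) (ZMod p)))] at hd
    rw [trace_units_conj (g.1 : (GL (Fin 2) (ZMod p)))] at ht
    rw [ha, hb] at hd ht
    simp only [det_mul, det_smul, det_one, Fintype.card_fin, mul_one, Matrix.mul_smul,
      trace_smul, smul_eq_mul] at hd ht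
    have hsq : ca ^ 2 = cb ^ 2 := mul_right_cancel₀ hxd hd
    have e : ∀ (z : π.ker) (c : ZMod p), (z : H).1.1 = c • (1 : (Matrix (Fin 2) (Fin 2) (ZMod p))) → (z : H).1.1 0 0 = c :=
      fun z c hz => by rw [hz]; simp
    rcases sq_eq_sq_iff_eq_or_eq_neg.1 hsq with e1 | e1
    · left
      refine Subtype.ext (Subtype.ext (Units.ext ?_))
      rw [ha, hb, e1]
    · have hb0 : cb ≠ 0 := fun h0 => det_ne p (b : H).1 (by rw [hb, h0]; simp)
      refine Or.inr ⟨by rw [e a ca ha, e b cb hb, e1], ?_⟩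
      rw [e1] at ht
      have : (2 : ZMod p) * cb * (x i).1.1.trace = 0 := by linear_combination -ht
      simpa [htwo_ne, hb0] using this
  have key := weighted_classes π x J (fun i j hij => by rw [hx, hx]; exact hsep i j hij) ?_ ?_
  · refine ⟨key, ?_⟩
    have hinj : Function.Injective fun i => ConjClasses.mk (x i) := fun i j hij => by
      by_contra hne
      refine hsep i j hne ?_
      rw [← hx, ← hx]
      exact π.map_isConj (ConjClasses.mk_eq_mk_iff_isConj.1 hij)
    simpa using Nat.card_le_card_of_injective _ hinj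
  · intro i hi a b h
    rcases hJ i hi with h1 | h1
    · obtain ⟨c, hc⟩ := (hker (x i)).1 ((hx i).trans h1)
      obtain ⟨ca, ha⟩ := (hker a).1 a.2
      have hcen : ∀ g : H, Commute g (x i * a) := fun g => by
        refine Subtype.ext (Units.ext ?_)
        simp [hc, ha]
      obtain ⟨g, hg⟩ := isConj_iff.1 h
      rw [(hcen g).eq, mul_inv_cancel_right] at hg
      exact Subtype.ext (mul_left_cancel hg)
    · refine (hdata i a b h).resolve_right fun ⟨_, htr⟩ => h1 ?_
      rw [← hx i, ← map_mul, hker]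
      exact ⟨-(x i).1.1.det, by simpa using sq_scalar_of_trace _ htr⟩
  · intro i a b c hab hac
    rcases hdata i a b hab with e | ⟨e1, -⟩
    · exact Or.inl e
    rcases hdata i a c hac with e | ⟨e2, -⟩
    · exact Or.inr (Or.inl e)
    refine Or.inr (Or.inr (Subtype.ext (Subtype.ext (Units.ext ?_))))
    obtain ⟨cb, hb⟩ := (hker b).1 b.2
    obtain ⟨cc, hc⟩ := (hker c).1 c.2
    have e3 := neg_injective (e1.symm.trans e2)
    rw [hb, hc] at e3 ⊢
    simp at e3
    rw [e3]

end Count

/-- The only exception in the icosahedral and octahedral cases. -/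
theorem arith_small {z K w n k : ℕ} (h5 : 5 ≤ p) (hdvd : p ^ 2 - 1 ∣ z * K) (hz : z ∣ p - 1)
    (hpK : ¬ p ∣ z * K) (hk : z * w ≤ 2 * k) (hn : n ≤ k)
    (hKw : (K = 12 ∧ w = 7 ∧ n = 4) ∨ (K = 24 ∧ w = 8 ∧ n = 5) ∨ (K = 60 ∧ w = 9 ∧ n = 5)) :
    p ≤ k ∨ (p = 11 ∧ z = 2 ∧ K = 60) := by
  have hz0 : 0 < z := Nat.pos_of_dvd_of_pos hz (by omega)
  have hzp : z ≤ p - 1 := Nat.le_of_dvd (by omega) hz
  have hK60 : K ≤ 60 := by omega
  have h1 : p ^ 2 - 1 ≤ (p - 1) * K :=
    (Nat.le_of_dvd (Nat.mul_pos hz0 (by omega)) hdvd).trans (Nat.mul_le_mul_right K hzp)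
  have h2 : p + 1 ≤ K := by
    rw [show p ^ 2 - 1 = (p - 1) * (p + 1) by
      rw [show 1 = 1 ^ 2 by norm_num, Nat.sq_sub_sq, one_pow]; ring] at h1
    exact Nat.le_of_mul_le_mul_left h1 (by omega)
  by_cases hle : p ≤ k
  · exact Or.inl hle
  right
  have hzz : z * w ≤ 2 * (p - 1) := hk.trans (by omega)
  have hz' : z ≤ 16 := by
    rcases hKw with ⟨rfl, rfl, rfl⟩ | ⟨rfl, rfl, rfl⟩ | ⟨rfl, rfl, rfl⟩ <;> omega
  have key : ∀ q : Fin 60, ∀ z : Fin 17, ∀ x : Fin 3,
      (5 ≤ q.1 ∧ (∀ d : Fin 8, 2 ≤ d.1 → d.1 ∣ q.1 → d.1 = q.1) ∧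
        q.1 ^ 2 - 1 ∣ z.1 * (![12, 24, 60] : Fin 3 → ℕ) x ∧ z.1 ∣ q.1 - 1 ∧
        ¬ q.1 ∣ z.1 * (![12, 24, 60] : Fin 3 → ℕ) x ∧
        z.1 * (![7, 8, 9] : Fin 3 → ℕ) x ≤ 2 * (q.1 - 1) ∧
        (![4, 5, 5] : Fin 3 → ℕ) x < q.1) → q.1 = 11 ∧ z.1 = 2 ∧ x = 2 := by
    decide +kernel
  have hq : ∀ d : Fin 8, 2 ≤ d.1 → d.1 ∣ p → d.1 = p :=
    fun d h2 hd => (hp.out.eq_one_or_self_of_dvd d hd).resolve_left (by omega)
  rcases hKw with ⟨rfl, rfl, rfl⟩ | ⟨rfl, rfl, rfl⟩ | ⟨rfl, rfl, rfl⟩
  · have := key ⟨p, by omega⟩ ⟨z, by omega⟩ 0 ⟨h5, hq, by simpa using hdvd, hz,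
      by simpa using hpK, by simpa using hzz, by simp; omega⟩
    exact absurd this.2.2 (by decide)
  · have := key ⟨p, by omega⟩ ⟨z, by omega⟩ 1 ⟨h5, hq, by simpa using hdvd, hz,
      by simpa using hpK, by simpa using hzz, by simp; omega⟩
    exact absurd this.2.2 (by decide)
  · have := key ⟨p, by omega⟩ ⟨z, by omega⟩ 2 ⟨h5, hq, by simpa using hdvd, hz,
      by simpa using hpK, by simpa using hzz, by simp; omega⟩
    exact ⟨this.1, this.2.1, rfl⟩

/-- A transitive subgroup of `GL₂(p)` of order prime to `p` has at least `p` classes, apart from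
`SL(2,5)` in `GL₂(11)`. -/
theorem plane_classes (h5 : 5 ≤ p) (H : Subgroup (GL (Fin 2) (ZMod p))) (hH : ¬ p ∣ Nat.card H)
    (ht : ∀ v w : Fin 2 → ZMod p, v ≠ 0 → w ≠ 0 → ∃ h ∈ H, (h : (Matrix (Fin 2) (Fin 2) (ZMod p))) *ᵥ v = w) :
    p ≤ Nat.card (ConjClasses H) ∨ (p = 11 ∧ Nat.card (ConjClasses H) = 9 ∧ Nat.card H = 120 ∧
      Nonempty (H ≃* Matrix.SpecialLinearGroup (Fin 2) (ZMod 5))) := by
  classical
  haveI : Fintype (GaloisField p 2) := Fintype.ofFinite _
  haveI : NeZero p := ⟨hp.out.ne_zero⟩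
  -- the action on the nonzero vectors
  letI : MulAction H {v : Fin 2 → ZMod p // v ≠ 0} :=
    { smul := fun h v => ⟨(h.1 : (Matrix (Fin 2) (Fin 2) (ZMod p))) *ᵥ v.1, fun e => v.2 (by
        have := congrArg ((h.1⁻¹ : (GL (Fin 2) (ZMod p))).1 *ᵥ ·) e
        rw [mulVec_mulVec, Units.inv_mul, one_mulVec, mulVec_zero] at this
        exact this)⟩
      one_smul := fun v => Subtype.ext (one_mulVec v.1)
      mul_smul := fun g h v => Subtype.ext (by
        show (g.1.1 * h.1.1) *ᵥ v.1 = g.1.1 *ᵥ (h.1.1 *ᵥ v.1)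
        rw [mulVec_mulVec]) }
  let v0 : {v : Fin 2 → ZMod p // v ≠ 0} := ⟨Pi.single 0 1, by simp⟩
  haveI : MulAction.IsPretransitive H {v : Fin 2 → ZMod p // v ≠ 0} :=
    ⟨fun v w => by
      obtain ⟨h, hh, e⟩ := ht v.1 w.1 v.2 w.2
      exact ⟨⟨h, hh⟩, Subtype.ext e⟩⟩
  have horb : Nat.card {v : Fin 2 → ZMod p // v ≠ 0} *
      Nat.card (MulAction.stabilizer H v0) = Nat.card H := by
    rw [← MulAction.index_stabilizer_of_transitive H v0, mul_comm]
    exact Subgroup.card_mul_index _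
  have hV : Nat.card {v : Fin 2 → ZMod p // v ≠ 0} = p ^ 2 - 1 := by
    rw [Nat.card_eq_fintype_card, Fintype.card_subtype_compl, Fintype.card_subtype_eq,
      Fintype.card_fun, ZMod.card, Fintype.card_fin]
  -- the projective image
  set O := ((phi p h5).comp H.subtype).range
  set π : H →* O := ((phi p h5).comp H.subtype).rangeRestrict
  have hker : ∀ h : H, π h = 1 ↔ ∃ c : ZMod p, h.1.1 = c • (1 : (Matrix (Fin 2) (Fin 2) (ZMod p))) := fun h => by
    constructor
    · intro e
      exact ⟨_, phi_ker p h5 (congrArg Subtype.val e)⟩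
    · rintro ⟨c, hc⟩
      exact Subtype.ext (phi_scalar p h5 hc)
  have hcen : π.ker ≤ Subgroup.center H := fun a ha => by
    obtain ⟨c, hc⟩ := (hker a).1 ha
    exact Subgroup.mem_center_iff.2 fun g => Subtype.ext (Units.ext (by simp [hc]))
  have hsurj : Function.Surjective π := MonoidHom.rangeRestrict_surjective _
  have hcard : Nat.card π.ker * Nat.card O = Nat.card H := by
    rw [← π.ker.card_mul_index, Subgroup.index_ker, MonoidHom.range_eq_top.2 hsurj,
      Subgroup.card_top]
  have hdvd : p ^ 2 - 1 ∣ Nat.card π.ker * Nat.card O := by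
    rw [hcard, ← horb, hV]; exact dvd_mul_right _ _
  have hzdvd : Nat.card π.ker ∣ p - 1 := by
    let f : π.ker →* ZMod p :=
      { toFun := fun a => a.1.1.1 0 0
        map_one' := by simp
        map_mul' := fun a b => by
          obtain ⟨c, hc⟩ := (hker a).1 a.2
          obtain ⟨d, hd⟩ := (hker b).1 b.2
          simp [hc, hd, mul_comm] }
    have hinj : Function.Injective f.toHomUnits := fun a b hab => by
      have h0 : a.1.1.1 0 0 = b.1.1.1 0 0 := congrArg Units.val hab
      obtain ⟨c, hc⟩ := (hker a).1 a.2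
      obtain ⟨d, hd⟩ := (hker b).1 b.2
      rw [hc, hd] at h0
      simp at h0
      exact Subtype.ext (Subtype.ext (Units.ext (by rw [hc, hd, h0])))
    have := Subgroup.card_dvd_of_injective _ hinj
    rwa [Nat.card_eq_fintype_card (α := (ZMod p)ˣ), ZMod.card_units] at this
  -- abelian subgroups of index at most two
  have habel : ∀ A : Subgroup H, (∀ a ∈ A, ∀ b ∈ A, a * b = b * a) → A.index ≤ 2 →
      p ≤ Nat.card (ConjClasses H) := by
    intro A hA hi
    have h1 := card_le_classes_mul_index A hA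
    have h2 := A.card_mul_index
    have h3 : p ^ 2 - 1 ≤ Nat.card H := by
      rw [← hV, ← horb]
      exact Nat.le_mul_of_pos_right _ Nat.card_pos
    have h4 : 5 * p ≤ p ^ 2 := by rw [sq]; exact Nat.mul_le_mul_right p h5
    have : A.index ≠ 0 := Subgroup.index_ne_zero_of_finite
    rcases (show A.index = 1 ∨ A.index = 2 by omega) with e | e <;> rw [e] at h1 h2 <;> omega
  have hnou : ∀ (g : GL (Fin 2) (GaloisField p 2)) (x : GaloisField p 2), x ≠ 0 →
      PSL2.uS x ∉ (O.comap PSL2.pr).map (PSL2.conjSL g).toMonoidHom := by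
    rintro g x hx ⟨y, hy, hyu⟩
    have hyp : y ^ p = 1 := by
      refine (PSL2.conjSL g).injective ?_
      rw [map_pow, map_one, show (PSL2.conjSL g) y = PSL2.uS x from hyu]
      have hu : ∀ m : ℕ, PSL2.uS x ^ m = PSL2.uS ((m : GaloisField p 2) * x) := fun m => by
        induction m with
        | zero => refine Subtype.ext ?_; simp [one_fin_two]
        | succ m ih => rw [pow_succ, ih, ← PSL2.uS_add]; push_cast; ring_nf
      rw [hu, CharP.cast_eq_zero, zero_mul]
      exact Subtype.ext (by simp [one_fin_two])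
    have hmem : PSL2.pr y ∈ O := hy
    have hpy : PSL2.pr y ^ p = 1 := by rw [← map_pow, hyp, map_one]
    have hne : PSL2.pr y ≠ 1 := by
      intro e
      obtain ⟨ε, -, he⟩ := (PSL2.pr_eq_iff y 1).1 (e.trans (map_one _).symm)
      have h := congrArg Subtype.val hyu
      change ((PSL2.conjSL g) y).1 = _ at h
      rw [PSL2.conjSL_val, he] at h
      simp at h
      have := congrFun (congrFun h 0) 1
      simp [Matrix.one_fin_two] at this
      exact hx this.symm
    have ho : orderOf (⟨_, hmem⟩ : O) = p := by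
      rw [Subgroup.orderOf_mk]; exact orderOf_eq_prime hpy hne
    exact hH ((ho ▸ orderOf_dvd_natCard (⟨_, hmem⟩ : O)).trans
      (hcard ▸ dvd_mul_left _ _))
  have hpOK : ¬ p ∣ Nat.card π.ker * Nat.card O := hcard ▸ hH
  -- counting over the three exceptional groups
  have hkerE : ∀ {M : Type} [Group M] (e : O ≃* M),
      (e.toMonoidHom.comp π).ker = π.ker := fun e => by
    ext a; simp [MonoidHom.mem_ker]
  have hmap := Dickson.map_comap_pr O
  cases Dickson.classify O with
  | cyclic k hk hc hcard' =>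
    rw [hmap] at hc
    exact Or.inl (habel ⊤ (fun a _ b _ => commutative_of_cyclic_center_quotient π hcen a b)
      (by simp))
  | dihedral k hk hk2 hiso =>
    rw [hmap] at hiso
    obtain ⟨e⟩ := hiso
    haveI : NeZero k := ⟨by omega⟩
    set π' := e.toMonoidHom.comp π
    set R := Subgroup.zpowers (DihedralGroup.r 1 : DihedralGroup k)
    have hindex : R.index = 2 := by
      have h := R.card_mul_index
      rw [Nat.card_zpowers, DihedralGroup.orderOf_r_one, DihedralGroup.nat_card] at h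
      exact Nat.eq_of_mul_eq_mul_left (show 0 < k by omega) (by rw [h, mul_comm])
    refine Or.inl (habel (R.comap π') (fun a ha b hb => ?_) ?_)
    · let f : R.comap π' →* R := π'.subgroupComap R
      have hf : f.ker ≤ Subgroup.center (R.comap π') := fun x hx =>
        Subgroup.mem_center_iff.2 fun y => Subtype.ext (Subgroup.mem_center_iff.1
          (hcen (by
            have : π' x = 1 := congrArg Subtype.val hx
            simpa [π', MonoidHom.mem_ker] using this)) y)
      exact congrArg Subtype.val (commutative_of_cyclic_center_quotient f hf ⟨a, ha⟩ ⟨b, hb⟩)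
    · rw [Subgroup.index_comap_of_surjective _ (e.surjective.comp hsurj), hindex]
  | borel g hg hu => exact absurd hu (hnou g 1 one_ne_zero)
  | field g K hlow hhigh hiso => exact absurd (hlow 1 K.one_mem).1 (hnou g 1 one_ne_zero)
  | a4 _ hiso =>
    rw [hmap] at hiso
    obtain ⟨e⟩ := hiso
    obtain ⟨h1, h2⟩ := classes_over H (e.toMonoidHom.comp π) h5 (fun h => by simp [← hker h])
      (e.surjective.comp hsurj) (fun i => (⟨repFour i, repFour_even i⟩ : alternatingGroup (Fin 4)))
      (Finset.univ.erase 1) (fun i j hij h => by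
        obtain ⟨c, hc⟩ := isConj_iff.1 h
        exact repFour_sep c c.2 i j hij
          (congrArg Subtype.val (mul_inv_eq_iff_eq_mul.1 hc)))
      (fun i hi => (repFour_sq i (Finset.ne_of_mem_erase hi)).imp Subtype.ext
        fun h e => h (congrArg Subtype.val e))
    rw [hkerE e, show 4 + (Finset.univ.erase (1 : Fin 4)).card = 7 from by decide] at h1
    rcases arith_small h5 hdvd hzdvd hpOK (w := 7) (n := 4) h1 h2
      (Or.inl ⟨by rw [Nat.card_congr e.toEquiv, nat_card_alternatingGroup, Nat.card_fin]; rfl,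
        rfl, rfl⟩) with h | ⟨-, -, h⟩
    · exact Or.inl h
    · rw [Nat.card_congr e.toEquiv, nat_card_alternatingGroup, Nat.card_fin] at h
      norm_num [Nat.factorial] at h
  | s4 _ hiso =>
    rw [hmap] at hiso
    obtain ⟨e⟩ := hiso
    obtain ⟨h1, h2⟩ := classes_over H (e.toMonoidHom.comp π) h5 (fun h => by simp [← hker h])
      (e.surjective.comp hsurj) repSym ((Finset.univ.erase 1).erase 2) (fun i j hij h => by
        obtain ⟨c, hc⟩ := isConj_iff.1 h
        exact repSym_sep c i j hij (mul_inv_eq_iff_eq_mul.1 hc))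
      (fun i hi => repSym_sq i ⟨Finset.ne_of_mem_erase (Finset.mem_of_mem_erase hi),
        Finset.ne_of_mem_erase hi⟩)
    rw [hkerE e, show 5 + ((Finset.univ.erase (1 : Fin 5)).erase 2).card = 8 from by decide] at h1
    rcases arith_small h5 hdvd hzdvd hpOK (w := 8) (n := 5) h1 h2
      (Or.inr (Or.inl ⟨by rw [Nat.card_congr e.toEquiv, Nat.card_perm, Nat.card_fin]; rfl,
        rfl, rfl⟩)) with h | ⟨-, -, h⟩
    · exact Or.inl h
    · rw [Nat.card_congr e.toEquiv, Nat.card_perm, Nat.card_fin] at h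
      norm_num [Nat.factorial] at h
  | a5 _ hiso =>
    rw [hmap] at hiso
    obtain ⟨e⟩ := hiso
    obtain ⟨h1, h2⟩ := classes_over H (e.toMonoidHom.comp π) h5 (fun h => by simp [← hker h])
      (e.surjective.comp hsurj) (fun i => (⟨repFive i, repFive_even i⟩ : alternatingGroup (Fin 5)))
      (Finset.univ.erase 1) (fun i j hij h => by
        obtain ⟨c, hc⟩ := isConj_iff.1 h
        exact repFive_sep c c.2 i j hij
          (congrArg Subtype.val (mul_inv_eq_iff_eq_mul.1 hc)))
      (fun i hi => (repFive_sq i (Finset.ne_of_mem_erase hi)).imp Subtype.ext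
        fun h e => h (congrArg Subtype.val e))
    rw [hkerE e, show 5 + (Finset.univ.erase (1 : Fin 5)).card = 9 from by decide] at h1
    have hO : Nat.card O = 60 := by
      rw [Nat.card_congr e.toEquiv, nat_card_alternatingGroup, Nat.card_fin]; rfl
    rcases arith_small h5 hdvd hzdvd hpOK (w := 9) (n := 5) h1 h2
      (Or.inr (Or.inr ⟨hO, rfl, rfl⟩)) with h | ⟨h11, hz, -⟩
    · exact Or.inl h
    have h120 : Nat.card H = 120 := by rw [← hcard, hz, hO]
    have hst : Nat.card (MulAction.stabilizer H v0) = 1 := by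
      have := horb
      have hp2 : p ^ 2 - 1 = 120 := by simp only [h11]; norm_num
      rw [hV, h120, hp2] at this
      omega
    have hfree : ∀ h : H, h ≠ 1 → ∀ v : Fin 2 → ZMod p, h.1.1 *ᵥ v = v → v = 0 := by
      intro h hne v hv
      by_contra hv0
      obtain ⟨g, hg⟩ := MulAction.exists_smul_eq H v0 (⟨v, hv0⟩ : {v : Fin 2 → ZMod p // v ≠ 0})
      have hs : g⁻¹ * h * g ∈ MulAction.stabilizer H v0 := by
        rw [MulAction.mem_stabilizer_iff, mul_smul, mul_smul, hg, inv_smul_eq_iff, hg]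
        exact Subtype.ext hv
      rw [Subgroup.eq_bot_of_card_eq _ hst, Subgroup.mem_bot] at hs
      exact hne (by simpa [mul_assoc] using congrArg (g * · * g⁻¹) hs)
    have hF : Perm.Fpf.HasFpf H := by
      refine Perm.Fpf.hasFpf_of_matrix (by norm_num : 0 < 2)
        ((Units.coeHom (Matrix (Fin 2) (Fin 2) (ZMod p))).comp H.subtype) fun h hne => ?_
      rw [Matrix.isUnit_iff_isUnit_det, isUnit_iff_ne_zero]
      intro hdet
      obtain ⟨v, hv0, hv⟩ := Matrix.exists_mulVec_eq_zero_iff.2 hdet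
      rw [sub_mulVec, one_mulVec, sub_eq_zero] at hv
      exact hv0 (hfree h hne v hv)
    have hns : ¬ Group.IsSolvable H := fun hs => by
      haveI : Group.IsSolvable H := hs
      haveI := Group.isSolvable_of_surjective (f := e.toMonoidHom.comp π) (e.surjective.comp hsurj)
      exact (Group.IsSolvable.commutator_lt_top_of_nontrivial (alternatingGroup (Fin 5))).ne
        (commutator_alternatingGroup_eq_top (by simp))
    obtain ⟨iso⟩ : Nonempty (H ≃* Perm.Fpf.SL25.SL) := hF.elim fun ρ hρ => by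
      obtain ⟨i⟩ := hρ.triSub_iso hns
      have htop : Perm.Fpf.triSub H = ⊤ :=
        Subgroup.eq_top_of_card_eq _ (by rw [Perm.Fpf.card_block ⟨i⟩, h120])
      exact ⟨(Subgroup.topEquiv.symm.trans (MulEquiv.subgroupCongr htop.symm)).trans i⟩
    refine Or.inr ⟨h11, ?_, h120, ⟨iso⟩⟩
    rw [← card_conjClasses_sl25]
    have hb : Function.Bijective (ConjClasses.map iso.toMonoidHom) := by
      refine ⟨fun a b hab => ?_, ConjClasses.map_surjective iso.surjective⟩
      obtain ⟨x, rfl⟩ := ConjClasses.mk_surjective a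
      obtain ⟨y, rfl⟩ := ConjClasses.mk_surjective b
      have h3 := iso.symm.toMonoidHom.map_isConj
        (ConjClasses.mk_eq_mk_iff_isConj.1 hab : IsConj (iso x) (iso y))
      exact ConjClasses.mk_eq_mk_iff_isConj.2 (by simpa using h3)
    exact Nat.card_eq_of_bijective _ hb

end Cfsg.Agent.TwoClass
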