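import Mathlib

/-!
# Lower bounds for the number of conjugacy classes
-/

set_option autoImplicit false

namespace Cfsg.Agent.TwoClass

variable {H : Type*} [Group H] [Finite H]

/-- An abelian subgroup meets each class in at most index many elements. -/
theorem card_le_classes_mul_index (A : Subgroup H) (hA : ∀ a ∈ A, ∀ b ∈ A, a * b = b * a) :
    Nat.card A ≤ Nat.card (ConjClasses H) * A.index := by
  have hg : ∀ a : A, ∃ g : H, g * (ConjClasses.mk (a : H)).out * g⁻¹ = a := fun a =>
    isConj_iff.1 (ConjClasses.mk_eq_mk_iff_isConj.1 (Quotient.out_eq _))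
  choose g hg using hg
  have hinj : Function.Injective fun a : A =>
      ((ConjClasses.mk (a : H), (QuotientGroup.mk ((g a)⁻¹) : H ⧸ A)) :
        ConjClasses H × (H ⧸ A)) := by
    intro a b hab
    obtain ⟨h1, h2⟩ := Prod.mk.injEq _ _ _ _ ▸ hab
    have hm : g a * (g b)⁻¹ ∈ A := by simpa using QuotientGroup.eq.1 h2
    refine Subtype.ext ?_
    have hc := hA _ hm _ b.2
    calc (a : H) = g a * (ConjClasses.mk (b : H)).out * (g a)⁻¹ := by rw [← h1, hg]
      _ = g a * (g b)⁻¹ * (g b * (ConjClasses.mk (b : H)).out * (g b)⁻¹) *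
          (g a * (g b)⁻¹)⁻¹ := by group
      _ = b := by rw [hg b, hc, mul_inv_cancel_right]
  have := Nat.card_le_card_of_injective _ hinj
  rwa [Nat.card_prod] at this

/-- Classes of a central extension: over pairwise non-conjugate elements of the quotient, central
elements give classes, each at most twice, and only once over the elements in `J`. -/
theorem weighted_classes {K : Type*} [Group K] (π : H →* K) {n : ℕ} (x : Fin n → H)
    (J : Finset (Fin n)) (hsep : ∀ i j, i ≠ j → ¬ IsConj (π (x i)) (π (x j)))
    (hone : ∀ i ∈ J, ∀ a b : π.ker, IsConj (x i * a) (x i * b) → a = b)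
    (htwo : ∀ i, ∀ a b c : π.ker, IsConj (x i * a) (x i * b) → IsConj (x i * a) (x i * c) →
      a = b ∨ a = c ∨ b = c) :
    Nat.card π.ker * (n + J.card) ≤ 2 * Nat.card (ConjClasses H) := by
  classical
  haveI := Fintype.ofFinite H
  have hsame : ∀ (i j : Fin n) (a b : π.ker), IsConj (x i * a) (x j * b) → i = j := by
    intro i j a b h
    by_contra hne
    refine hsep i j hne ?_
    have := π.map_isConj h
    rwa [map_mul, map_mul, MonoidHom.mem_ker.1 a.2, MonoidHom.mem_ker.1 b.2, mul_one,
      mul_one] at this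
  let T : Finset (π.ker × Fin n) := Finset.univ
  let f : π.ker × Fin n → ConjClasses H := fun q => ConjClasses.mk (x q.2 * q.1)
  have hbound : ∀ c : ConjClasses H, ((Finset.univ : Finset (π.ker × Fin n)).filter (f · = c)).card +
      (((Finset.univ : Finset π.ker) ×ˢ J).filter (f · = c)).card ≤ 2 := by
    intro c
    set S := (Finset.univ : Finset (π.ker × Fin n)).filter (f · = c) with hS
    set S' := ((Finset.univ : Finset π.ker) ×ˢ J).filter (f · = c) with hS'
    have hsub : S' ⊆ S := fun q hq => by
      simp only [hS, hS', Finset.mem_filter] at hq ⊢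
      exact ⟨Finset.mem_univ _, hq.2⟩
    have hS2 : S.card ≤ 2 := by
      by_contra h
      obtain ⟨p, q, r, hp, hq, hr, hpq, hpr, hqr⟩ := Finset.two_lt_card_iff.1 (not_le.1 h)
      simp only [hS, Finset.mem_filter, f] at hp hq hr
      have h1 := ConjClasses.mk_eq_mk_iff_isConj.1 (hp.2.trans hq.2.symm)
      have h2 := ConjClasses.mk_eq_mk_iff_isConj.1 (hp.2.trans hr.2.symm)
      have e1 := hsame _ _ _ _ h1
      have e2 := hsame _ _ _ _ h2
      rw [← e1] at h1
      rw [← e2] at h2
      rcases htwo _ _ _ _ h1 h2 with e | e | e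
      · exact hpq (Prod.ext e e1)
      · exact hpr (Prod.ext e e2)
      · exact hqr (Prod.ext e (e1.symm.trans e2))
    rcases S'.eq_empty_or_nonempty with h0 | ⟨q, hq⟩
    · rw [h0, Finset.card_empty, add_zero]; exact hS2
    · have hS1 : S.card ≤ 1 := Finset.card_le_one_iff.2 fun {p r} hp hr => by
        simp only [hS, hS', Finset.mem_filter, f, Finset.mem_product] at hp hr hq
        have h1 := ConjClasses.mk_eq_mk_iff_isConj.1 (hq.2.trans hp.2.symm)
        have h2 := ConjClasses.mk_eq_mk_iff_isConj.1 (hq.2.trans hr.2.symm)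
        have e1 := hsame _ _ _ _ h1
        have e2 := hsame _ _ _ _ h2
        rw [← e1] at h1
        rw [← e2] at h2
        exact Prod.ext ((hone _ hq.1.2 _ _ h1).symm.trans (hone _ hq.1.2 _ _ h2))
          (e1.symm.trans e2)
      exact (Nat.add_le_add hS1 ((Finset.card_le_card hsub).trans hS1)).trans le_rfl
  have h1 := Finset.sum_le_sum (fun c (_ : c ∈ (Finset.univ : Finset (ConjClasses H))) => hbound c)
  rw [Finset.sum_add_distrib, ← Finset.card_eq_sum_card_fiberwise (fun q _ => Finset.mem_univ _),
    ← Finset.card_eq_sum_card_fiberwise (fun q _ => Finset.mem_univ _), Finset.sum_const,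
    Finset.card_product, Finset.card_univ, Finset.card_univ, Finset.card_univ, Fintype.card_prod,
    Fintype.card_fin, smul_eq_mul] at h1
  rw [Nat.card_eq_fintype_card, Nat.card_eq_fintype_card, mul_add]
  omega

end Cfsg.Agent.TwoClass
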